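import Groth.Prelude.Def_AlgSt5
import Groth.Agent.Lib.QuotSt.Triv
import Mathlib.GroupTheory.GroupAction.Quotient
import Mathlib.GroupTheory.Index
import Mathlib.CategoryTheory.Conj
import Mathlib.Algebra.BigOperators.Finprod
import Mathlib.CategoryTheory.FiberedCategory.Fiber
import Mathlib.CategoryTheory.IsomorphismClasses

/-!
# The fibre of a quotient category over a base on which every torsor has a point

The fibre is the action groupoid of `Hom(T, G)` on `Hom(T, X)`; in particular its mass is `#X(T)/#G(T)`.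
-/

set_option backward.isDefEq.respectTransparency false
set_option backward.isDefEq.respectTransparency.types false
set_option autoImplicit false

universe u

open CategoryTheory CategoryTheory.Limits AlgebraicGeometry MonoidalCategory CartesianMonoidalCategory MonObj CategoryTheory.Functor

namespace GrothLib.QuotPts13

variable {S : Scheme.{u}} {K : Precoverage Scheme.{u}} [K.HasIsos] {G : Over S} [GrpObj G] {X : Over S}
  {aX : AlgGrp.Action G X} {T : Over S}

omit [K.HasIsos] in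
/-- A morphism of the quotient category over an isomorphism of bases is an isomorphism. -/
theorem isIso_of_isIso_base {A B : AlgSt.QuotObj K G aX} (h : A ⟶ B) [IsIso h.base] : IsIso h := by
  haveI : IsIso h.top := h.cart.isIso_fst_of_isIso inferInstance
  let k : B ⟶ A :=
    { base := inv h.base
      top := inv h.top
      eqv := by
        have e : G ◁ inv h.top = inv (G ◁ h.top) := by simp
        rw [e, IsIso.eq_inv_comp, ← reassoc_of% h.eqv, IsIso.hom_inv_id, Category.comp_id]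
      cart := IsPullback.of_horiz_isIso ⟨by rw [IsIso.inv_comp_eq, ← Category.assoc, IsIso.eq_comp_inv, h.cart.w]⟩
      wφ := by rw [IsIso.inv_comp_eq, h.wφ] }
  exact ⟨k, AlgSt.QuotObj.hom_ext (IsIso.hom_inv_id _) (IsIso.hom_inv_id _),
    AlgSt.QuotObj.hom_ext (IsIso.inv_hom_id _) (IsIso.inv_hom_id _)⟩

omit [K.HasIsos] in
/-- A morphism of a fibre whose underlying morphism is invertible is invertible. -/
theorem isIso_fiber {ξ ζ : (AlgSt.QuotSt K G aX).p.Fiber T} (h : ξ ⟶ ζ) : IsIso h := by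
  haveI := h.2
  have hb : IsIso h.1.base := by
    have := IsHomLift.fac' (AlgSt.QuotSt K G aX).p (𝟙 T) h.1
    change h.1.base = _ at this
    rw [this]
    infer_instance
  haveI := isIso_of_isIso_base h.1
  have : IsHomLift (AlgSt.QuotSt K G aX).p (𝟙 T) (inv h.1) := by
    refine IsHomLift.of_fac' _ _ _ ζ.2 ξ.2 ?_
    rw [Functor.map_inv, IsIso.inv_eq_of_hom_inv_id]
    rw [IsHomLift.fac' (AlgSt.QuotSt K G aX).p (𝟙 T) h.1]
    simp
  exact ⟨⟨inv h.1, this⟩, Subtype.ext (IsIso.hom_inv_id h.1), Subtype.ext (IsIso.inv_hom_id h.1)⟩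

variable (K aX) in
/-- The object of the fibre defined by a point of `X`. -/
noncomputable def tr (x : T ⟶ X) : (AlgSt.QuotSt K G aX).p.Fiber T :=
  ⟨(AlgSt.quotMap K G aX).obj ⟨T, ⟨x⟩⟩, rfl⟩

variable (K aX) in
/-- The morphism of trivial torsors defined by a group element. -/
noncomputable def homT {x y : T ⟶ X} (g : T ⟶ G) (hg : lift g y ≫ aX.act = x) : tr K aX x ⟶ tr K aX y :=
  ⟨GrothLib.QuotSt.homOfTrans (K := K) (aX := aX) (a := ⟨T, ⟨x⟩⟩) (b := ⟨T, ⟨y⟩⟩) g (𝟙 T)
      (by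
        change lift g (𝟙 T ≫ y) ≫ aX.act = x
        rw [Category.id_comp, hg]), by
    refine IsHomLift.of_fac' _ _ _ rfl rfl ?_
    change lift g (𝟙 T) ≫ snd G T = _
    simp only [lift_snd, eqToHom_refl, Category.id_comp, Category.comp_id]
    rfl⟩

theorem top_homT {x y : T ⟶ X} (g : T ⟶ G) (hg : lift g y ≫ aX.act = x) :
    (homT K aX g hg).1.top = (G ◁ lift g (𝟙 T)) ≫ (AlgSt.leftMul G T).act := rfl

theorem point_homT {x y : T ⟶ X} (g : T ⟶ G) (hg : lift g y ≫ aX.act = x) :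
    GrothLib.QuotSt.unitSec T ≫ (homT K aX g hg).1.top = lift g (𝟙 T) :=
  GrothLib.QuotSt.unitSec_whiskerLeft_act _ _

theorem homT_inj {x y : T ⟶ X} {g g' : T ⟶ G} {hg : lift g y ≫ aX.act = x} {hg' : lift g' y ≫ aX.act = x}
    (h : homT K aX g hg = homT K aX g' hg') : g = g' := by
  have := congrArg (fun f : tr K aX x ⟶ tr K aX y => GrothLib.QuotSt.unitSec T ≫ f.1.top) h
  simp only [point_homT] at this
  simpa using this =≫ fst G T

theorem homT_surj {x y : T ⟶ X} (h : tr K aX x ⟶ tr K aX y) :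
    ∃ (g : T ⟶ G) (hg : lift g y ≫ aX.act = x), homT K aX g hg = h := by
  obtain ⟨g, hp, hg⟩ := GrothLib.QuotSt.exists_trans (K := K) (aX := aX) (a := ⟨T, ⟨x⟩⟩) (b := ⟨T, ⟨y⟩⟩) h.1
  haveI := h.2
  have hb : h.1.base = 𝟙 T := by
    have := IsHomLift.fac' (AlgSt.QuotSt K G aX).p (𝟙 T) h.1
    change h.1.base = _ at this
    rw [this]
    simp only [eqToHom_refl, Category.id_comp, Category.comp_id]
    rfl
  rw [hb] at hp hg
  refine ⟨g, by simpa using hg, Subtype.ext ?_⟩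
  refine GrothLib.QuotSt.hom_ext_point ?_
  rw [hp]
  exact point_homT _ _

theorem homT_one (x : T ⟶ X) : homT K aX 1 (GrothLib.QuotSt.lift_one_act aX x) = 𝟙 (tr K aX x) := by
  refine Subtype.ext (GrothLib.QuotSt.hom_ext_point ?_)
  refine (point_homT _ _).trans ?_
  exact (Category.comp_id _).symm

theorem homT_comp {x y z : T ⟶ X} (g g' : T ⟶ G) (hg : lift g y ≫ aX.act = x) (hg' : lift g' z ≫ aX.act = y) :
    homT K aX g hg ≫ homT K aX g' hg' =
      homT K aX (g * g') (by rw [← GrothLib.QuotSt.lift_mul_act, hg', hg]) := by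
  refine Subtype.ext (GrothLib.QuotSt.hom_ext_point ?_)
  refine Eq.trans ?_ (point_homT _ _).symm
  change GrothLib.QuotSt.unitSec T ≫ (homT K aX g hg).1.top ≫ (homT K aX g' hg').1.top = _
  rw [← Category.assoc, point_homT, top_homT, ← Category.assoc, lift_whiskerLeft]
  apply CartesianMonoidalCategory.hom_ext <;> simp [AlgSt.leftMul, comp_mul]

/-- The action of `Hom(T, G)` on `Hom(T, X)`. -/
@[reducible] noncomputable def ptsAction (aX : AlgGrp.Action G X) (T : Over S) : MulAction (T ⟶ G) (T ⟶ X) where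
  smul g x := lift g x ≫ aX.act
  one_smul x := GrothLib.QuotSt.lift_one_act aX x
  mul_smul g h x := (GrothLib.QuotSt.lift_mul_act aX g h x).symm

theorem nonempty_iso_iff (x y : T ⟶ X) :
    Nonempty (tr K aX x ≅ tr K aX y) ↔ ∃ g : T ⟶ G, lift g y ≫ aX.act = x := by
  refine ⟨fun ⟨e⟩ => ?_, fun ⟨g, hg⟩ => ?_⟩
  · obtain ⟨g, hg, -⟩ := homT_surj e.hom
    exact ⟨g, hg⟩
  · haveI := isIso_fiber (homT K aX g hg)
    exact ⟨asIso (homT K aX g hg)⟩

/-- The automorphisms of a trivial torsor are the stabilizer of its point. -/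
noncomputable def autEquiv (x : T ⟶ X) : {g : T ⟶ G // lift g x ≫ aX.act = x} ≃ Aut (tr K aX x) := by
  refine Equiv.ofBijective (fun g =>
    haveI := isIso_fiber (homT K aX g.1 g.2)
    asIso (homT K aX g.1 g.2)) ⟨fun g g' h => Subtype.ext (homT_inj (hg := g.2) (hg' := g'.2) (congrArg Iso.hom h)), fun e => ?_⟩
  obtain ⟨g, hg, he⟩ := homT_surj e.hom
  exact ⟨⟨g, hg⟩, Iso.ext he⟩

/-- An object with a point is a trivial torsor. -/
theorem exists_iso_tr {ξ : (AlgSt.QuotSt K G aX).p.Fiber T} (p : T ⟶ ξ.1.P) (hp : p ≫ ξ.1.π = eqToHom ξ.2.symm) :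
    Nonempty (tr K aX (p ≫ ξ.1.φ) ≅ ξ) := by
  let f : (tr K aX (p ≫ ξ.1.φ)).1 ⟶ ξ.1 := GrothLib.QuotSt.homOfPoint ⟨T, ⟨p ≫ ξ.1.φ⟩⟩ ξ.1 p rfl
  have hf : IsHomLift (AlgSt.QuotSt K G aX).p (𝟙 T) f := by
    refine IsHomLift.of_fac' _ _ _ rfl ξ.2 ?_
    change p ≫ ξ.1.π = _
    rw [hp]
    simp
  let φ : tr K aX (p ≫ ξ.1.φ) ⟶ ξ := ⟨f, hf⟩
  haveI := isIso_fiber φ
  exact ⟨asIso φ⟩

/-- The mass formula for the action groupoid. -/
theorem mass [Finite (T ⟶ G)] [Finite (T ⟶ X)]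
    (hpt : ∀ ξ : (AlgSt.QuotSt K G aX).p.Fiber T, ∃ p : T ⟶ ξ.1.P, p ≫ ξ.1.π = eqToHom ξ.2.symm) :
    Finite (Quotient (isIsomorphicSetoid ((AlgSt.QuotSt K G aX).p.Fiber T))) ∧
      (∀ ξ : (AlgSt.QuotSt K G aX).p.Fiber T, Finite (Aut ξ)) ∧
      ∑ᶠ c : Quotient (isIsomorphicSetoid ((AlgSt.QuotSt K G aX).p.Fiber T)), ((Nat.card (Aut c.out) : ℚ))⁻¹ =
        (Nat.card (T ⟶ X) : ℚ) / (Nat.card (T ⟶ G) : ℚ) := by
  classical
  letI := ptsAction aX T
  have hall : ∀ ξ : (AlgSt.QuotSt K G aX).p.Fiber T, ∃ x, Nonempty (tr K aX x ≅ ξ) := fun ξ => by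
    obtain ⟨p, hp⟩ := hpt ξ
    exact ⟨_, exists_iso_tr p hp⟩
  let e : Quotient (MulAction.orbitRel (T ⟶ G) (T ⟶ X)) →
      Quotient (isIsomorphicSetoid ((AlgSt.QuotSt K G aX).p.Fiber T)) :=
    Quotient.map (tr K aX) fun x y hxy => (nonempty_iso_iff x y).2 hxy
  have he : Function.Bijective e := by
    constructor
    · intro q q'
      induction q, q' using Quotient.inductionOn₂ with
      | h x y => exact fun h => Quotient.sound ((nonempty_iso_iff x y).1 (Quotient.exact h))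
    · intro c
      induction c using Quotient.inductionOn with
      | h ξ =>
        obtain ⟨x, hx⟩ := hall ξ
        exact ⟨⟦x⟧, Quotient.sound hx⟩
  have haut : ∀ ξ (x : T ⟶ X), Nonempty (tr K aX x ≅ ξ) →
      Nonempty ({g : T ⟶ G // lift g x ≫ aX.act = x} ≃ Aut ξ) :=
    fun ξ x ⟨i⟩ => ⟨(autEquiv x).trans i.conjAut.toEquiv⟩
  refine ⟨Finite.of_surjective e he.2, fun ξ => ?_, ?_⟩
  · obtain ⟨x, hx⟩ := hall ξ
    obtain ⟨f⟩ := haut ξ x hx
    exact Finite.of_equiv _ f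
  · haveI := Fintype.ofFinite (Quotient (MulAction.orbitRel (T ⟶ G) (T ⟶ X)))
    rw [← finsum_comp_equiv (Equiv.ofBijective e he), finsum_eq_sum_of_fintype, eq_div_iff (Nat.cast_ne_zero.2 Nat.card_pos.ne'),
      Finset.sum_mul, Nat.card_congr (MulAction.selfEquivSigmaOrbitsQuotientStabilizer (T ⟶ G) (T ⟶ X)),
      Nat.card_sigma, Nat.cast_sum]
    refine Finset.sum_congr rfl fun q _ => ?_
    have hq : Nonempty (tr K aX q.out ≅ (Equiv.ofBijective e he q).out) := by
      refine Quotient.exact (s := isIsomorphicSetoid _) ?_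
      rw [Quotient.out_eq]
      change e ⟦q.out⟧ = e q
      rw [Quotient.out_eq]
    obtain ⟨f⟩ := haut _ _ hq
    rw [← Nat.card_congr f]
    change ((Nat.card (MulAction.stabilizer (T ⟶ G) q.out) : ℚ))⁻¹ * _ = _
    have h0 : (Nat.card (MulAction.stabilizer (T ⟶ G) q.out) : ℚ) ≠ 0 := Nat.cast_ne_zero.2 Nat.card_pos.ne'
    rw [inv_mul_eq_iff_eq_mul₀ h0, ← Nat.cast_mul]
    exact congrArg _ (Subgroup.card_mul_index (MulAction.stabilizer (T ⟶ G) q.out)).symm

end GrothLib.QuotPts13
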