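import Mathlib.AlgebraicGeometry.Morphisms.FiniteType
import Mathlib.AlgebraicGeometry.Morphisms.QuasiCompact
import Mathlib.RingTheory.Adjoin.Basic
import Mathlib.CategoryTheory.Comma.Over.Basic
import Mathlib.RingTheory.FiniteType
import Mathlib.RingTheory.Spectrum.Prime.Topology

/-!
# A scheme of finite type over a finite field has finitely many rational points
-/

universe u

open CategoryTheory AlgebraicGeometry

namespace GrothLib.QuotPts13

/-- Finitely many sections over a finite field. -/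
theorem finite_ratPt {F : Type u} [Field F] [Finite F] (X : Over (Spec (CommRingCat.of F)))
    [LocallyOfFiniteType X.hom] [QuasiCompact X.hom] :
    Finite (Over.mk (𝟙 (Spec (CommRingCat.of F))) ⟶ X) := by
  classical
  let T : Over (Spec (CommRingCat.of F)) := Over.mk (𝟙 (Spec (CommRingCat.of F)))
  haveI : CompactSpace X.left := QuasiCompact.compactSpace_of_compactSpace X.hom
  let U := X.left.affineCover.finiteSubcover
  haveI : Finite U.I₀ := inferInstance
  have haff : ∀ i, IsAffine (U.X i) := fun i => inferInstanceAs (IsAffine (X.left.affineCover.X _))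
  let P : U.I₀ → Type u := fun i =>
      {ψ : Γ(U.X i, ⊤) ⟶ CommRingCat.of F //
        ((Scheme.ΓSpecIso (CommRingCat.of F)).inv ≫ (U.f i ≫ X.hom).appTop) ≫ ψ = 𝟙 _}
  haveI : ∀ i, Finite (P i) := by
    intro i
    haveI := haff i
    let φ := (Scheme.ΓSpecIso (CommRingCat.of F)).inv ≫ (U.f i ≫ X.hom).appTop
    letI : Algebra F Γ(U.X i, ⊤) := φ.hom.toAlgebra
    haveI : Algebra.FiniteType F Γ(U.X i, ⊤) := by
      haveI : LocallyOfFiniteType (U.f i ≫ X.hom) := inferInstance
      have h1 : (U.f i ≫ X.hom).appTop.hom.FiniteType := by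
        rw [Scheme.Hom.appTop, Scheme.Hom.app_eq_appLE]
        exact (U.f i ≫ X.hom).finiteType_appLE (isAffineOpen_top _) (isAffineOpen_top _) _
      exact h1.comp (RingHom.FiniteType.of_surjective _
        (ConcreteCategory.bijective_of_isIso (Scheme.ΓSpecIso (CommRingCat.of F)).inv).2)
    obtain ⟨s, hs⟩ := (inferInstance : Algebra.FiniteType F Γ(U.X i, ⊤)).out
    haveI : Finite {ψ : Γ(U.X i, ⊤) ⟶ CommRingCat.of F // φ ≫ ψ = 𝟙 _} := by
      refine Finite.of_injective (fun ψ => fun a : s => ψ.1.hom a.1) fun ψ ψ' h => ?_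
      let a : Γ(U.X i, ⊤) →ₐ[F] F := { ψ.1.hom with commutes' := fun c => congr($(ψ.2) c) }
      let a' : Γ(U.X i, ⊤) →ₐ[F] F := { ψ'.1.hom with commutes' := fun c => congr($(ψ'.2) c) }
      have : a = a' := AlgHom.ext_of_adjoin_eq_top hs fun x hx => congrFun h ⟨x, hx⟩
      exact Subtype.ext (CommRingCat.hom_ext (RingHom.ext fun x => congr($this x)))
    infer_instance
  haveI : ∀ i, IsAffine (U.X i) := haff
  have key : ∀ i, (U.X i).isoSpec.hom ≫ Spec.map ((Scheme.ΓSpecIso (CommRingCat.of F)).inv ≫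
      (U.f i ≫ X.hom).appTop) = U.f i ≫ X.hom := fun i => by
    rw [Spec.map_comp, Scheme.isoSpec_hom_naturality_assoc, Scheme.isoSpec_hom, toSpecΓ_SpecMap_ΓSpecIso_inv]
    exact Category.comp_id _
  refine Finite.of_surjective (α := Σ i, P i) (fun p => Over.homMk (U := T) (V := X)
    (Spec.map p.2.1 ≫ (U.X p.1).isoSpec.inv ≫ U.f p.1) ?_) fun x => ?_
  · show _ ≫ X.hom = 𝟙 _
    rw [Category.assoc, Category.assoc]
    refine (congrArg (fun m => Spec.map p.2.1 ≫ (U.X p.1).isoSpec.inv ≫ m) (key p.1).symm).trans ?_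
    have h := congrArg Spec.map p.2.2
    rw [Spec.map_comp, Spec.map_id] at h
    rw [Iso.inv_hom_id_assoc]
    exact h
  · let pt : T.left := IsLocalRing.closedPoint F
    obtain ⟨i, z, hz⟩ : ∃ i, ∃ z, (U.f i).base z = x.left.base pt :=
      ⟨_, U.covers (x.left.base pt)⟩
    haveI : Subsingleton ↥T.left := inferInstanceAs (Subsingleton (PrimeSpectrum F))
    have hr : Set.range x.left.base ⊆ Set.range (U.f i).base := by
      rintro _ ⟨w, rfl⟩
      rw [Subsingleton.elim w pt]
      exact ⟨z, hz⟩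
    let y : Spec (CommRingCat.of F) ⟶ U.X i := IsOpenImmersion.lift (U.f i) x.left hr
    refine ⟨⟨i, ⟨Spec.preimage (y ≫ (U.X i).isoSpec.hom), ?_⟩⟩, ?_⟩
    · apply Spec.map_injective
      rw [Spec.map_comp, Spec.map_preimage, Spec.map_id, Category.assoc, key,
        IsOpenImmersion.lift_fac_assoc]
      exact Over.w x
    · ext1
      show Spec.map (Spec.preimage (y ≫ (U.X i).isoSpec.hom)) ≫ (U.X i).isoSpec.inv ≫ U.f i = x.left
      rw [Spec.map_preimage, Category.assoc, Iso.hom_inv_id_assoc]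
      exact IsOpenImmersion.lift_fac _ _ _

end GrothLib.QuotPts13
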